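import Mathlib.LinearAlgebra.SymmetricAlgebra.Basic
import Mathlib.Algebra.TrivSqZeroExt.Basic
import Mathlib.RingTheory.Kaehler.Basic

/-!
# Kähler differentials of a symmetric algebra
-/

set_option autoImplicit false
set_option linter.style.haveILetI false
universe u

open scoped TensorProduct

namespace Groth.Agent.Lib.OmegaVE

variable {R A M : Type u} [CommRing R] [CommRing A] [Algebra R A] [AddCommGroup M] [Module R M]

/-- `A ⊗ M → Ω_{A/R}`, `a ⊗ m ↦ a • d (ι m)`, is bijective for a symmetric algebra `A` of `M`. -/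
theorem bijective_liftBaseChange_D (ι : M →ₗ[R] A) (hι : IsSymmetricAlgebra ι) :
    Function.Bijective (LinearMap.liftBaseChange A
      (((KaehlerDifferential.D R A).toLinearMap).comp ι)) := by
  let g : M →ₗ[R] TrivSqZeroExt A (A ⊗[R] M) :=
    { toFun := fun m => TrivSqZeroExt.inl (ι m) + TrivSqZeroExt.inr (1 ⊗ₜ m)
      map_add' := fun x y => TrivSqZeroExt.ext (by simp) (by simp [TensorProduct.tmul_add])
      map_smul' := fun r x => TrivSqZeroExt.ext (by simp) (by simp [TensorProduct.tmul_smul]) }
  let F : A →ₐ[R] TrivSqZeroExt A (A ⊗[R] M) := hι.lift g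
  have hfst : ∀ a, (F a).fst = a := AlgHom.congr_fun
    (hι.algHom_ext (F := (TrivSqZeroExt.fstHom R A (A ⊗[R] M)).comp F) (G := AlgHom.id R A) (by
      ext m
      show (F (ι m)).fst = ι m
      rw [show F (ι m) = g m from hι.lift_eq g m]
      simp [g]))
  let δ : Derivation R A (A ⊗[R] M) := Derivation.mk'
    { toFun := fun a => (F a).snd
      map_add' := fun x y => by simp
      map_smul' := fun r x => by simp }
    fun a b => by
      show (F (a * b)).snd = a • (F b).snd + b • (F a).snd
      rw [map_mul, TrivSqZeroExt.snd_mul, hfst, hfst, op_smul_eq_smul]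
  let Φ := LinearMap.liftBaseChange A (((KaehlerDifferential.D R A).toLinearMap).comp ι)
  let Ψ : (Ω[A⁄R]) →ₗ[A] (A ⊗[R] M) := δ.liftKaehlerDifferential
  have hΨ : ∀ a, Ψ (KaehlerDifferential.D R A a) = δ a := δ.liftKaehlerDifferential_comp_D
  have hδι : ∀ m, δ (ι m) = 1 ⊗ₜ m := fun m => by
    show (F (ι m)).snd = _
    rw [show F (ι m) = g m from hι.lift_eq g m]
    simp [g]
  have h1 : ∀ w, Ψ (Φ w) = w := by
    intro w
    induction w using TensorProduct.induction_on with
    | zero => simp
    | add x y hx hy => simp only [map_add, hx, hy]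
    | tmul a m =>
      show Ψ (a • KaehlerDifferential.D R A (ι m)) = _
      rw [map_smul, hΨ, hδι, TensorProduct.smul_tmul', smul_eq_mul, mul_one]
  refine ⟨Function.LeftInverse.injective h1, ?_⟩
  have h2 : ∀ b, KaehlerDifferential.D R A b ∈ LinearMap.range Φ := by
    intro b
    refine hι.induction (motive := fun b => KaehlerDifferential.D R A b ∈ LinearMap.range Φ)
      (fun r => ?_) (fun m => ?_) (fun a b ha hb => ?_) (fun a b ha hb => ?_) b
    · rw [Derivation.map_algebraMap]
      exact zero_mem _
    · exact ⟨1 ⊗ₜ m, by simp [Φ]⟩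
    · rw [Derivation.leibniz]
      exact add_mem (Submodule.smul_mem _ _ hb) (Submodule.smul_mem _ _ ha)
    · rw [map_add]
      exact add_mem ha hb
  intro x
  exact (show (⊤ : Submodule A (Ω[A⁄R])) ≤ LinearMap.range Φ by
    rw [← KaehlerDifferential.span_range_derivation, Submodule.span_le]
    rintro _ ⟨b, rfl⟩
    exact h2 b) Submodule.mem_top

end Groth.Agent.Lib.OmegaVE
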