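import Groth.Agent.Lib.OmegaVE.Alg
import Groth.Agent.Lib.SymAlg.Sections
import Groth.Agent.Lib.RelSpecBasics.Gamma
import Groth.Agent.Lib.Conormal92.OmegaSect
import Groth.Agent.Lib.Kaehler.Finite
import Groth.Agent.Lib.CechRes.PullSec
import Groth.Agent.Lib.QCohChart.Basic
import Groth.Agent.Lib.QCoh.Pullback

/-!
# The differentials of a vector bundle
-/

set_option autoImplicit false
set_option linter.style.haveILetI false
universe u

open CategoryTheory CategoryTheory.Limits AlgebraicGeometry TopologicalSpace Opposite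
open Groth.Agent.Lib
open scoped TensorProduct

namespace Groth.Agent.Lib.OmegaVE

variable {S : Scheme.{u}} {E : S.Modules} {A : RelSpec.QCAlg S} {j : E ⟶ A.toModule}
  {Ω' : A.spec.Modules} {d : OmegaSh.Der A.π Ω'} {φ : (Scheme.Modules.pullback A.π).obj E ⟶ Ω'}

theorem app_bijective [E.IsQuasicoherent] (hA : RelSpec.IsSymAlg E A j) (hd : OmegaSh.IsUniversal d)
    (hφ : ∀ (U : S.Opens) (t : Γ(E, U)) (t' : Γ(A.spec, A.π ⁻¹ᵁ U)),
      A.gammaMap.app (op U) t' = j.app U t →
        φ.app (A.π ⁻¹ᵁ U) (OmegaSh.pullSect A.π E U t) = d.app (A.π ⁻¹ᵁ U) t')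
    {V : S.Opens} (hV : IsAffineOpen V) : Function.Bijective (φ.app (A.π ⁻¹ᵁ V)) := by
  let U := A.π ⁻¹ᵁ V
  have hU : IsAffineOpen U := hV.preimage A.π
  letI algB : Algebra Γ(S, V) Γ(A.spec, U) := (A.π.appLE V U le_rfl).hom.toAlgebra
  letI : Algebra Γ(S, V) (A.presheaf.obj (op V)) := (A.str.app (op V)).hom.toAlgebra
  haveI := RelSpecBasics.Gamma.isIso_gammaMap A
  let c : Γ(A.spec, U) ≃ₐ[Γ(S, V)] A.presheaf.obj (op V) :=
    AlgEquiv.ofBijective
      { (A.gammaMap.app (op V)).hom with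
        commutes' := fun r => by
          show A.gammaMap.app (op V) (A.π.appLE V U le_rfl r) = A.str.app (op V) r
          rw [← Scheme.Hom.app_eq_appLE]
          exact congr($(NatTrans.congr_app A.π_c_gammaMap (op V)) r) }
      (ConcreteCategory.bijective_of_isIso (A.gammaMap.app (op V)))
  let ι : Γ(E, V) →ₗ[Γ(S, V)] Γ(A.spec, U) :=
    c.symm.toLinearMap.comp (SymAlg.Sections.lin A j V)
  have hιsym : IsSymmetricAlgebra ι := by
    have h : SymmetricAlgebra.lift ι = c.symm.toAlgHom.comp (SymmetricAlgebra.lift (SymAlg.Sections.lin A j V)) := by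
      refine SymmetricAlgebra.algHom_ext (LinearMap.ext fun m => ?_)
      simp [ι]
    show Function.Bijective _
    rw [h]
    exact c.symm.bijective.comp (SymAlg.Sections.cmp_bijective hA hV)
  haveI : ((Scheme.Modules.pullback A.π).obj E).IsQuasicoherent := QCoh.Pullback.isQCoh_pullback A.π E
  let N := (Scheme.Modules.pullback A.π).obj E
  letI : Module Γ(S, V) Γ(N, U) := Module.compHom _ (A.π.appLE V U le_rfl).hom
  haveI : IsScalarTower Γ(S, V) Γ(A.spec, U) Γ(N, U) := IsScalarTower.of_algebraMap_smul fun _ _ => rfl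
  have hb := CechRes.PullSec.isBaseChange_mu A.π E hV hU (le_refl U)
  obtain ⟨e, he⟩ := Conormal92.OmegaSect.exists_equiv A.π hU hV (le_refl U) hd
  have hmu : ∀ t, CechRes.PullSec.mu A.π E (U := U) le_rfl t = OmegaSh.pullSect A.π E V t := fun t => by
    show N.presheaf.map (homOfLE le_rfl).op (OmegaSh.pullSect A.π E V t) = OmegaSh.pullSect A.π E V t
    rw [Subsingleton.elim (homOfLE le_rfl).op (𝟙 (op U))]
    erw [CategoryTheory.Functor.map_id]
    rfl
  let T := LinearMap.liftBaseChange Γ(A.spec, U)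
    (((KaehlerDifferential.D Γ(S, V) Γ(A.spec, U)).toLinearMap).comp ι)
  have hT : ∀ w, e (φ.app U (hb.equiv w)) = T w := by
    intro w
    induction w using TensorProduct.induction_on with
    | zero => simp; rfl
    | add x y hx hy => simp only [map_add, hx, hy]; rfl
    | tmul b t =>
      rw [hb.equiv_tmul]
      show e (φ.app U (b • CechRes.PullSec.mu A.π E le_rfl t)) = _
      rw [Scheme.Modules.Hom.app_smul, map_smul, hmu, hφ V t (ι t) (c.apply_symm_apply _), he]
      rfl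
  have hTb : Function.Bijective T := bijective_liftBaseChange_D ι hιsym
  have h3 : Function.Bijective (⇑e ∘ ⇑(φ.app U) ∘ ⇑hb.equiv) := by
    rw [show (⇑e ∘ ⇑(φ.app U) ∘ ⇑hb.equiv) = ⇑T from funext hT]
    exact hTb
  exact (Function.Bijective.of_comp_iff _ hb.equiv.bijective).1
    ((Function.Bijective.of_comp_iff' e.bijective _).1 h3)

theorem isIso_of_isSymAlg [E.IsQuasicoherent] (hA : RelSpec.IsSymAlg E A j) (hd : OmegaSh.IsUniversal d)
    (hφ : ∀ (U : S.Opens) (t : Γ(E, U)) (t' : Γ(A.spec, A.π ⁻¹ᵁ U)),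
      A.gammaMap.app (op U) t' = j.app U t →
        φ.app (A.π ⁻¹ᵁ U) (OmegaSh.pullSect A.π E U t) = d.app (A.π ⁻¹ᵁ U) t') : IsIso φ := by
  haveI := QCoh.Pullback.isQCoh_pullback A.π E
  haveI : Ω'.IsQuasicoherent := Kaehler.Finite.isQuasicoherent hd
  have key : ∀ x : A.spec, ∃ U : A.spec.Opens, IsAffineOpen U ∧ x ∈ U ∧ Function.Bijective (φ.app U) := by
    intro x
    obtain ⟨V, hV, hxV, -⟩ := exists_isAffineOpen_mem_and_subset (U := (⊤ : S.Opens)) (x := A.π x) trivial
    exact ⟨A.π ⁻¹ᵁ V, hV.preimage A.π, hxV, app_bijective hA hd hφ hV⟩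
  haveI : Epi φ := QCohChart.Basic.epi_of_charts φ fun x => by
    obtain ⟨U', h1, h2, h3⟩ := key x
    exact ⟨U', h1, h2, h3.2⟩
  haveI : Mono φ := QCohChart.Basic.mono_of_charts φ fun x => by
    obtain ⟨U', h1, h2, h3⟩ := key x
    exact ⟨U', h1, h2, h3.1⟩
  exact isIso_of_mono_of_epi φ

end Groth.Agent.Lib.OmegaVE
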